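import Mathlib

/-!
# A closed immersion of finite flat schemes of the same degree is an isomorphism
-/

set_option autoImplicit false
universe u

open CategoryTheory AlgebraicGeometry

namespace Groth.Agent.BTDegLib

theorem bijective_of_rankAtStalk_eq {R P N : Type u} [CommRing R] [AddCommGroup P] [Module R P] [AddCommGroup N]
    [Module R N] [Module.Finite R P] [Module.Projective R P] [Module.Finite R N] [Module.Projective R N]
    (f : P →ₗ[R] N) (hf : Function.Surjective f)
    (h : Module.rankAtStalk (R := R) P = Module.rankAtStalk (R := R) N) : Function.Bijective f := by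
  refine ⟨?_, hf⟩
  obtain ⟨s, hs⟩ := Module.projective_lifting_property f LinearMap.id hf
  let e : P ≃ₗ[R] LinearMap.ker f × N :=
    { toFun := fun x => (⟨x - s (f x), by
        rw [LinearMap.mem_ker, map_sub]
        exact sub_eq_zero.2 (LinearMap.congr_fun hs (f x)).symm⟩, f x)
      map_add' := fun x y => by
        refine Prod.ext (Subtype.ext ?_) (map_add f x y)
        show x + y - s (f (x + y)) = (x - s (f x)) + (y - s (f y))
        rw [map_add, map_add]; abel
      map_smul' := fun r x => by
        refine Prod.ext (Subtype.ext ?_) (map_smul f r x)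
        show r • x - s (f (r • x)) = r • (x - s (f x))
        rw [map_smul, map_smul, smul_sub]
      invFun := fun y => (y.1 : P) + s y.2
      left_inv := fun x => sub_add_cancel _ _
      right_inv := fun y => by
        have h2 : f ((y.1 : P) + s y.2) = y.2 := by
          rw [map_add, LinearMap.mem_ker.1 y.1.2, zero_add]
          exact LinearMap.congr_fun hs y.2
        refine Prod.ext (Subtype.ext ?_) h2
        show (y.1 : P) + s y.2 - s (f ((y.1 : P) + s y.2)) = y.1
        rw [h2, add_sub_cancel_right] }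
  haveI : Module.Finite R (LinearMap.ker f × N) := Module.Finite.equiv e
  haveI : Module.Finite R (LinearMap.ker f) :=
    Module.Finite.of_surjective (LinearMap.fst R (LinearMap.ker f) N) LinearMap.fst_surjective
  haveI : Module.Projective R (LinearMap.ker f) :=
    Module.Projective.of_split (e.symm.toLinearMap.comp (LinearMap.inl R (LinearMap.ker f) N))
      ((LinearMap.fst R (LinearMap.ker f) N).comp e.toLinearMap) (by ext x; simp)
  have h0 : Module.rankAtStalk (R := R) (LinearMap.ker f) = 0 := by
    have h1 := Module.rankAtStalk_eq_of_equiv e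
    rw [Module.rankAtStalk_prod, h] at h1
    simpa using h1
  haveI : Subsingleton (LinearMap.ker f) := Module.rankAtStalk_eq_zero_iff_subsingleton.1 h0
  rw [← LinearMap.ker_eq_bot]
  exact Submodule.subsingleton_iff_eq_bot.1 inferInstance

/-- A closed immersion between finite flat schemes of equal degree over an affine scheme is an isomorphism. -/
theorem isIso_of_isClosedImmersion {R : CommRingCat.{u}} {P Q : Scheme.{u}} (p : P ⟶ Spec R) (q : Q ⟶ Spec R)
    (i : Q ⟶ P) [IsClosedImmersion i] (hi : i ≫ p = q) [IsFinite p] [Flat p] [LocallyOfFinitePresentation p]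
    [IsFinite q] [Flat q] [LocallyOfFinitePresentation q] (h : ∀ s, p.finrank s = q.finrank s) : IsIso i := by
  haveI : IsAffine P := isAffine_of_isAffineHom p
  haveI : IsAffine Q := isAffine_of_isAffineHom q
  let φ : R ⟶ Γ(P, ⊤) := (Scheme.ΓSpecIso R).inv ≫ p.appTop
  let ψ : R ⟶ Γ(Q, ⊤) := (Scheme.ΓSpecIso R).inv ≫ q.appTop
  have hψ : φ ≫ i.appTop = ψ := by
    simp only [φ, ψ, ← hi, Scheme.Hom.comp_appTop, Category.assoc]
  have key : ∀ {Z : Scheme.{u}} [IsAffine Z] (z : Z ⟶ Spec R),
      z = Z.isoSpec.hom ≫ Spec.map ((Scheme.ΓSpecIso R).inv ≫ z.appTop) := fun z => by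
    rw [Spec.map_comp, Scheme.isoSpec_hom_naturality_assoc, Scheme.isoSpec_Spec_hom, ← Spec.map_comp,
      Iso.inv_hom_id, Spec.map_id, Category.comp_id]
  have hp' : Spec.map φ = P.isoSpec.inv ≫ p := (Iso.eq_inv_comp _).2 (key p).symm
  have hq' : Spec.map ψ = Q.isoSpec.inv ≫ q := (Iso.eq_inv_comp _).2 (key q).symm
  algebraize [φ.hom, ψ.hom]
  let g : Γ(P, ⊤) →ₐ[R] Γ(Q, ⊤) := AlgHom.mk i.appTop.hom fun r => by
    show i.appTop (φ r) = ψ r
    rw [← hψ]; rfl
  haveI : IsFinite (Spec.map φ) := by rw [hp']; infer_instance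
  haveI : IsFinite (Spec.map ψ) := by rw [hq']; infer_instance
  haveI : Flat (Spec.map φ) := by rw [hp']; infer_instance
  haveI : Flat (Spec.map ψ) := by rw [hq']; infer_instance
  haveI : LocallyOfFinitePresentation (Spec.map φ) := by rw [hp']; infer_instance
  haveI : LocallyOfFinitePresentation (Spec.map ψ) := by rw [hq']; infer_instance
  haveI : Module.Finite R Γ(P, ⊤) := (IsFinite.SpecMap_iff _).1 ‹IsFinite (Spec.map φ)›
  haveI : Module.Finite R Γ(Q, ⊤) := (IsFinite.SpecMap_iff _).1 ‹IsFinite (Spec.map ψ)›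
  haveI : Module.Flat R Γ(P, ⊤) := Flat.SpecMap_iff.1 ‹Flat (Spec.map φ)›
  haveI : Module.Flat R Γ(Q, ⊤) := Flat.SpecMap_iff.1 ‹Flat (Spec.map ψ)›
  haveI : Algebra.FinitePresentation R Γ(P, ⊤) :=
    (HasRingHomProperty.Spec_iff (P := @LocallyOfFinitePresentation)).1 ‹LocallyOfFinitePresentation (Spec.map φ)›
  haveI : Algebra.FinitePresentation R Γ(Q, ⊤) :=
    (HasRingHomProperty.Spec_iff (P := @LocallyOfFinitePresentation)).1 ‹LocallyOfFinitePresentation (Spec.map ψ)›
  haveI : Module.FinitePresentation R Γ(P, ⊤) := Module.FinitePresentation.of_finite_of_finitePresentation R _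
  haveI : Module.FinitePresentation R Γ(Q, ⊤) := Module.FinitePresentation.of_finite_of_finitePresentation R _
  haveI : Module.Projective R Γ(P, ⊤) := Module.Flat.projective_of_finitePresentation
  haveI : Module.Projective R Γ(Q, ⊤) := Module.Flat.projective_of_finitePresentation
  have hsurj : Function.Surjective g.toLinearMap :=
    ((IsClosedImmersion.isAffine_surjective_of_isAffine (f := i)).2 :)
  have hrk : Module.rankAtStalk (R := R) Γ(P, ⊤) = Module.rankAtStalk (R := R) Γ(Q, ⊤) := funext fun s => by
    have h1 := h s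
    rw [key p, key q, Scheme.Hom.finrank_comp_left_of_isIso, Scheme.Hom.finrank_comp_left_of_isIso] at h1
    exact (Scheme.Hom.finrank_SpecMap_algebraMap R Γ(P, ⊤) s).symm.trans
      (h1.trans (Scheme.Hom.finrank_SpecMap_algebraMap R Γ(Q, ⊤) s))
  haveI : IsIso i.appTop := (ConcreteCategory.isIso_iff_bijective _).2 (bijective_of_rankAtStalk_eq g.toLinearMap hsurj hrk)
  haveI : IsIso (i ≫ P.isoSpec.hom) := by
    rw [← Scheme.isoSpec_hom_naturality]; infer_instance
  exact IsIso.of_isIso_comp_right i P.isoSpec.hom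

end Groth.Agent.BTDegLib
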